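import Cfsg.Agent.Mrg.Omega.NOThreeL.AFour.Two
import Cfsg.Agent.Mrg.Omega.NOThreeL.AFour.NotFFPlug
import Cfsg.Agent.Mrg.Omega.FFBr.Final
import Cfsg.Agent.Mrg.Omega.Spread.Plug

-- merged: Cfsg.Agent.Mrg.Omega.NOThreeL.AFour.Final
section

/-!
# NO-3L, case (A): the sockets `Main.A4` and `CaseAS` are theorems

* `natTwo` : `q = 2` (helper185 `ind_two`);
* `no_A` : no pair of type (A); `a4`, `caseA`.
-/

set_option autoImplicit false
set_option Elab.async false

namespace Cfsg.Agent.Omega.NOThreeL.AFour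

open Subgroup Cfsg Cfsg.Agent.ZN Cfsg.Agent.Omega.FrameNOFF
open Cfsg.Agent.Omega.MinPar Cfsg.Agent.Omega.FFThm Cfsg.Agent.Omega.Node.NO3L Cfsg.Agent.Omega.Frame
open Cfsg.Agent.Omega.NOThreeL.Basic Cfsg.Agent.Omega.NOThreeL.Main

universe u

/-- Over a field with two elements. -/
theorem two_of_card {F : Type} [Field F] [Finite F] (h : Nat.card F = 2) (x : F) : x = 0 ∨ x = 1 := by
  classical
  by_contra hx
  push Not at hx
  have h1 : ({0, 1, x} : Finset F).card = 3 := by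
    rw [Finset.card_insert_of_notMem, Finset.card_insert_of_notMem, Finset.card_singleton]
    · simpa using hx.2.symm
    · simp only [Finset.mem_insert, Finset.mem_singleton, not_or]
      exact ⟨zero_ne_one, hx.1.symm⟩
  have := Fintype.ofFinite F
  have h2 := Finset.card_le_univ ({0, 1, x} : Finset F)
  rw [h1, ← Nat.card_eq_fintype_card, h] at h2
  omega

/-- `|F| = 2` (K-free; input `FFThm.Stmt` only for `NoOver`). -/
theorem natTwo (hFF : FFThm.Stmt.{u}) : NatTwo.{u} := by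
  intro G _ _ hG S D P H E F _ _ _ k hk h2 M
  have h1 := DataZ.cv_eq hG.char2 D E.par
  have M' := M
  rw [h1] at M'
  have h : FrA S P H M' := ⟨hG.char2, hG.sylow_ne_bot S, D, E, hk⟩
  have hoff := h.off_of_ind (ind_two hG.char2 D E (two_of_card h2) hk M')
  obtain ⟨hn, -, hoff', he⟩ := PairA.off_of hG.char2 hFF E hoff
  exact ATwo.false_of_exact hG D ⟨E, hoff, hoff', hn, he⟩ hk M

/-- **There is no pair of type (A).** -/
theorem no_A {G : Type u} [Group G] [Finite G] (hG : Ctx G) {S : Sylow 2 G} (D : DataZ (S : Subgroup G))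
    {P H : Subgroup G} (E : PairA (S : Subgroup G) P H) : False :=
  caseA_false FFBr.ffthm FFBr.ffthmM (natTwo FFBr.ffthm) notFF hG D E

/-- **The socket `Main.A4`.** -/
theorem a4 (K : Cls.{u}) : Main.A4 K :=
  a4_of FFBr.ffthm FFBr.ffthmM (natTwo FFBr.ffthm) notFF K

/-- **Case (A) of NO-3L.** -/
theorem caseA (K : Cls.{u}) : CaseAS K :=
  caseA_of FFBr.ffthm FFBr.ffthmM (natTwo FFBr.ffthm) notFF K

end Cfsg.Agent.Omega.NOThreeL.AFour

end

-- merged: Cfsg.Agent.Mrg.Omega.NOThreeL.RLow.Glue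
section

/-!
# THEOREM R-LOW (#21762, helper597): the glue

* `Parts` : the parts RA, …, R3;
* `low_of` : in box R (some `C_Z(P) ≠ 1`), not (A), `V* = ⟨Z^M₀⟩` not FF: `V* ≤ Q`;
* `rlow` : the same without "not (A)" if not (A) is known.
-/

set_option autoImplicit false

namespace Cfsg.Agent.Omega.NOThreeL.RLow

open Subgroup Cfsg Cfsg.Agent.ZN Cfsg.Agent.Omega.MinPar Cfsg.Agent.Omega.Frame Cfsg.Agent.Omega.FrameNOFF
open Cfsg.Agent.Omega.Node.NO3L (Data)
open Cfsg.Agent.Omega.NOThreeL.Basic (CaseA WP)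
open Cfsg.Agent.Omega.NOThreeL.Merge (MZ)
open Cfsg.Agent.Omega.NOThreeL.Low (Blk Rtv Tor)
open Cfsg.Agent.Omega.NOne.Flat (Hyp EE WW NN BadX)
open Cfsg.Agent.Omega.NO3S (FFMod)
open Cfsg.Agent.Omega.FrameFF (cv)
open Cfsg.Agent.Omega.FFThm (OffM NatKM SymKM)
open scoped Pointwise

universe u

/-- All parts. -/
structure Parts : Prop where
  ra : StRA.{u}
  rb : StRB.{u}
  rc : StRC.{u}
  rd : StRD.{u}
  re : StRE.{u}
  rf : StRF.{u}
  r2 : StR2.{u}
  r3 : StR3.{u}

variable {G : Type u} [Group G] [Finite G] {S : Sylow 2 G}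

/-- Every bad line is natural with trivial radical. -/
theorem key (T : Parts.{u}) {V F B P : Subgroup G} (s : SitR S V F B P) :
    ∃ (K : Type) (_ : Field K) (_ : Finite K) (_ : CharP K 2) (k : ℕ), 0 < k ∧
      Nonempty (NatKM K (S : Subgroup G) P (zl (S : Subgroup G) P) ⊥ k) ∧ cv (S : Subgroup G) P = ⊥ := by
  obtain ⟨A, hA, hoff⟩ := T.ra G S V F B P s
  have hSP : (S : Subgroup G) ≤ P := s.hP.le
  have hcon := (FFBr.ffthmM G S P (FFThm.syl_of_sylow S hSP) s.hP.toIsMinPar (s.hP.isLoc.char2 S s.ctx.char2)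
    ⟨A, hA, hoff⟩).2
  rcases hcon with ⟨K, i1, i2, i3, k, hk, N⟩ | ⟨k, m, hk, hm, ⟨N⟩⟩
  · have hcv := T.rc G S V F B P s K k hk N
    refine ⟨K, i1, i2, i3, k, hk, ?_, hcv⟩
    rwa [hcv] at N
  · exact (T.rb G S V F B P s k m hk hm N).elim

/-- The bad line has `C_Z(P) = 1`. -/
theorem cz_eq (T : Parts.{u}) {V F B P : Subgroup G} (s : SitR S V F B P) :
    zc (S : Subgroup G) ⊓ centralizer (P : Set G) = ⊥ := by
  obtain ⟨K, i1, i2, i3, k, hk, -, hcv⟩ := key T s
  have h1 : zc (S : Subgroup G) ⊓ centralizer (P : Set G) ≤ cv (S : Subgroup G) P := by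
    refine inf_le_inf (MinSimple.VModule.zc_le_zl _ _) (centralizer_le ?_)
    exact MinSimple.VModule.oddGen_le P
  rwa [hcv, le_bot_iff] at h1

/-- There is no situation `SitG`, if there is a radical line. -/
theorem sit_false (T : Parts.{u}) {V F B P : Subgroup G} (s : SitG {Q | IsParS (S : Subgroup G) Q} S V F B P)
    (hR : ∃ R, IsParS (S : Subgroup G) R ∧ zc (S : Subgroup G) ⊓ centralizer (R : Set G) ≠ ⊥) : False := by
  obtain ⟨R, hR, hz⟩ := hR
  -- the radical line is good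
  have hRE : zl (S : Subgroup G) R ≤ EE V F := by
    by_contra hbad
    have s' : SitR S V F B R :=
      { s.toSitR with hP := hR, UV := s.LV R hR, bad := hbad, pt0 := s.ptA R hR hbad }
    exact hz (cz_eq T s')
  obtain ⟨K, i1, i2, i3, k, hk, ⟨N⟩, -⟩ := key T s.toSitR
  obtain ⟨i, β, n⟩ := T.rd G S V F B P s.toSitR K k N hk
  rcases Nat.lt_or_ge 1 k with h2 | h1
  · exact T.r2 G S V F B P K k N i β n (T.rf G S V F B P K k N i β n) h2
  · obtain rfl : k = 1 := le_antisymm h1 hk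
    obtain rfl : i = 0 := Subsingleton.elim _ _
    exact T.r3 G S V F B P K N β n (T.re G S V F B P K 1 N 0 β n) R hR hz (s.LV R hR) (s.good R hR hRE)

/-- **THEOREM R-LOW.** -/
theorem low_of (T : Parts.{u}) (hG : Ctx G) (hF : Full (S : Subgroup G)) (D : Data (S : Subgroup G))
    (hA : ¬ CaseA (S : Subgroup G))
    (hR : ∃ R, IsParS (S : Subgroup G) R ∧ zc (S : Subgroup G) ⊓ centralizer (R : Set G) ≠ ⊥)
    (hff : ¬ FFMod (S : Subgroup G) (MZ (S : Subgroup G))) :
    zl (S : Subgroup G) (MZ (S : Subgroup G)) ≤ o2 (CZ (S : Subgroup G)) := by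
  by_contra hlow
  obtain ⟨V, F, B, P, s⟩ := r1 G hG S hF D hA hR hff hlow
  exact sit_false T s hR

end Cfsg.Agent.Omega.NOThreeL.RLow

end
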